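import Groth.Agent.Csa25.SBEmbed

/-! Forms split by a finite Galois extension are projective. -/

set_option autoImplicit false
open scoped Groth.Agent.Csa25
open CategoryTheory CategoryTheory.Limits AlgebraicGeometry HomogeneousLocalization

noncomputable section

namespace Groth.Agent.BS25

open Groth.Agent.Csa25

universe u

variable {k : Type u} [Field k] {L : Type u} [Field L] [Algebra k L] [FiniteDimensional k L] [IsGalois k L]
  {n : ℕ} {X : Scheme.{u}} {f : X ⟶ Spec (CommRingCat.of k)}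

/-- A form split by a finite Galois extension embeds by invariant forms of degree `n + 1`. -/
theorem exists_closedImmersion (e : BrSev.Splitting f L n) :
    ∃ (N : ℕ) (ρ : X ⟶ CohB1.ProjSpace N k), IsClosedImmersion ρ ∧ ρ ≫ CohB1.ProjSpace.toSpec N k = f := by
  classical
  obtain ⟨F⟩ := exists_frame e
  choose c hc0 hc using F.mul
  let μ : (L ≃ₐ[k] L) → L := fun σ => (F.mat σ).det
  have hμ0 : ∀ σ, μ σ ≠ 0 := fun σ => ((Matrix.isUnit_iff_isUnit_det _).1 (F.isUnit σ)).ne_zero
  have hμ : ∀ σ τ, c σ τ ^ (n + 1) * μ (σ * τ) = μ σ * σ (μ τ) := fun σ τ => by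
    have h := congrArg Matrix.det (hc σ τ)
    rw [Matrix.det_mul, Matrix.det_smul, Fintype.card_fin] at h
    refine h.symm.trans (congrArg (μ σ * ·) ?_)
    exact (RingHom.map_det σ.toAlgHom.toRingHom (F.mat τ)).symm
  obtain ⟨N, P, hN, hspan, hinv⟩ := exists_invariant_forms F.mat F.isUnit c hc μ hμ0 hμ
  have hP := exists_notMem_of_span hspan
  obtain ⟨r', hr', -⟩ := exists_isFormMap (A := L) P hP
  obtain ⟨rk, hrk, -⟩ := exists_isFormMap (A := k) P hP
  have hcl' := isClosedImmersion_of_isFormMap n.succ_pos hspan hr'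
  have hrk' : r' ≫ linMap (algebraMap k L) 1 isUnit_one = rk := IsFormMap.unique hP hr'.comp_base hrk
  have hrkσ : ∀ σ : L ≃ₐ[k] L, linMap (σ : L →+* L) (F.mat σ) (F.isUnit σ) ≫ rk = rk := fun σ =>
    IsFormMap.unique hP (hrk.comp_linMap n.succ_pos (σ : L →+* L) (F.mat σ) (F.isUnit σ) P
      (RingHom.ext σ.commutes) (μ σ) (isUnit_iff_ne_zero.mpr (hμ0 σ)) (hinv σ)) hrk
  let q := CohB1.ProjSpace.toSpec N k
  let str' : Spec (CommRingCat.of L) ⟶ Spec (CommRingCat.of k) := Spec.map (CommRingCat.ofHom (algebraMap k L))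
  have hcond : (e.iso.hom ≫ rk) ≫ q = BrSev.bcTo f L ≫ str' := by
    rw [Category.assoc, hrk.comm, ← Category.assoc, e.comm]
  let h : BrSev.bc f L ⟶ BrSev.bc q L := pullback.lift (e.iso.hom ≫ rk) (BrSev.bcTo f L) hcond
  have h1 : h ≫ BrSev.proj q L = e.iso.hom ≫ rk := pullback.lift_fst _ _ _
  have h2 : h ≫ BrSev.bcTo q L = BrSev.bcTo f L := pullback.lift_snd _ _ _
  have heq : ∀ σ, bcAct f σ ≫ h = h ≫ bcAct q σ := by
    intro σ
    apply pullback.hom_ext
    · show (_ ≫ h) ≫ BrSev.proj q L = (h ≫ _) ≫ BrSev.proj q L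
      rw [Category.assoc, h1, Category.assoc, bcAct_proj, h1]
      have hact := F.act σ
      rw [Iso.inv_comp_eq] at hact
      rw [reassoc_of% hact, hrkσ]
    · show (_ ≫ h) ≫ BrSev.bcTo q L = (h ≫ _) ≫ BrSev.bcTo q L
      rw [Category.assoc, h2, Category.assoc, bcAct_bcTo, bcAct_bcTo, reassoc_of% h2]
  have hhcl : IsClosedImmersion h := by
    let i := (isPullback_linMap_one (n := N) (R := k) (R' := L)).isoPullback
    have hh : h = e.iso.hom ≫ r' ≫ i.hom := by
      apply pullback.hom_ext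
      · refine h1.trans ?_
        rw [Category.assoc, Category.assoc, IsPullback.isoPullback_hom_fst, hrk']
      · refine h2.trans ?_
        rw [Category.assoc, Category.assoc, IsPullback.isoPullback_hom_snd, hr'.comm,
          show CommRingCat.ofHom (algebraMap L L) = 𝟙 (CommRingCat.of L) from rfl, Spec.map_id]
        exact (e.comm.symm.trans (congrArg (e.iso.hom ≫ ·) (Category.comp_id _).symm))
    rw [hh]
    infer_instance
  letI : X.Over (Spec (CommRingCat.of k)) := ⟨f⟩
  letI : (CohB1.ProjSpace N k).Over (Spec (CommRingCat.of k)) := ⟨q⟩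
  obtain ⟨ρ, hρ, hρ'⟩ := (Desc59.GalMor.descend k L (X := X) (Y := CohB1.ProjSpace N k) h h2).mpr heq
  change ρ ≫ q = f at hρ
  change h ≫ BrSev.proj q L = BrSev.proj f L ≫ ρ at hρ'
  refine ⟨N, ρ, ?_, hρ⟩
  have hsurj : Surjective str' := ⟨fun x =>
    ⟨IsLocalRing.closedPoint L, Subsingleton.elim (α := PrimeSpectrum k) _ x⟩⟩
  have hflat : Flat str' := by
    rw [HasRingHomProperty.Spec_iff (P := @Flat)]
    exact RingHom.flat_algebraMap_iff.mpr inferInstance
  haveI : Flat (BrSev.proj q L) := by dsimp [BrSev.proj]; infer_instance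
  haveI : Surjective (BrSev.proj q L) := by dsimp [BrSev.proj]; infer_instance
  haveI : QuasiCompact (BrSev.proj q L) := by dsimp [BrSev.proj]; infer_instance
  have hbig : IsPullback (BrSev.proj f L) (h ≫ BrSev.bcTo q L) (ρ ≫ q) str' := by
    rw [h2, hρ]
    exact IsPullback.of_hasPullback _ _
  have hsq : IsPullback (BrSev.proj f L) h ρ (BrSev.proj q L) :=
    IsPullback.of_bot hbig hρ'.symm (IsPullback.of_hasPullback _ _)
  exact Unr55.isClosedImmersion.of_isPullback hsq.flip ⟨⟨inferInstance, inferInstance⟩, inferInstance⟩ hhcl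

end Groth.Agent.BS25
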